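import Groth.Prelude.Def_LogNCD
import Groth.Prelude.Def_CycCov
import Groth.Agent.Lib.Ideal.Comap
import Groth.Agent.Lib.JacCrit.OverField
import Groth.Agent.Lib.Regular.UFD
import Mathlib.AlgebraicGeometry.Morphisms.Etale
import Mathlib.AlgebraicGeometry.FunctionField
import Mathlib.AlgebraicGeometry.Morphisms.Smooth
import Mathlib.RingTheory.TensorProduct.Quotient
import Mathlib.RingTheory.Flat.TorsionFree
import Mathlib.RingTheory.LocalProperties.IntegrallyClosed

/-!
Local algebra at a normal crossing divisor.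
-/

set_option autoImplicit false
set_option linter.style.haveILetI false
universe u
open CategoryTheory AlgebraicGeometry TopologicalSpace Opposite
open scoped TensorProduct

namespace Groth.Agent.H95.CycCover.Base

theorem ideal_eq_top_of_disjoint {X : Scheme.{u}} (I : X.IdealSheafData) (U : X.affineOpens)
    (h : Disjoint (U.1 : Set X) (I.support : Set X)) : I.ideal U = ⊤ := by
  by_contra hne
  obtain ⟨P, hP, hle⟩ := Ideal.exists_le_maximal _ hne
  let p : PrimeSpectrum Γ(X, U.1) := ⟨P, hP.isPrime⟩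
  have hp : p ∈ PrimeSpectrum.zeroLocus (I.ideal U : Set Γ(X, U.1)) := hle
  have hmem : U.2.fromSpec p ∈ X.zeroLocus (U := U.1) (I.ideal U : Set Γ(X, U.1)) ∩ (U.1 : Set X) := by
    rw [← U.2.fromSpec_image_zeroLocus]; exact ⟨p, hp, rfl⟩
  exact Set.disjoint_left.mp h hmem.2
    ((Scheme.IdealSheafData.mem_supportSet_iff_of_mem hmem.2).mpr hmem.1)

theorem divIdeal_ideal {X : Scheme.{u}} {r : ℕ} (D : Fin r → X.IdealSheafData) (α : Fin r → ℕ)
    (U : X.affineOpens) : (CycCov.divIdeal D α).ideal U = ∏ j, (D j).ideal U ^ α j := by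
  unfold CycCov.divIdeal
  induction (Finset.univ : Finset (Fin r)) using Finset.induction_on with
  | empty => simp
  | insert a s ha ih =>
    rw [Finset.prod_insert ha, Finset.prod_insert ha, Scheme.IdealSheafData.ideal_mul, Pi.mul_apply,
      ih, Scheme.IdealSheafData.ideal_pow, Pi.pow_apply]

section Smooth

variable {k : Type u} [Field k] {X : Scheme.{u}} (f : X ⟶ Spec (CommRingCat.of k)) [Smooth f]

include f in
theorem isNoetherianRing (U : X.affineOpens) : IsNoetherianRing Γ(X, U.1) :=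
  haveI := LocallyOfFiniteType.isLocallyNoetherian f
  IsLocallyNoetherian.component_noetherian U

include f in
theorem isRegularLocalRing (U : X.affineOpens) (P : Ideal Γ(X, U.1)) [P.IsPrime] :
    IsRegularLocalRing (Localization.AtPrime P) := by
  let p : PrimeSpectrum Γ(X, U.1) := ⟨P, inferInstance⟩
  have hy : U.2.fromSpec p ∈ U.1 := by
    have h : U.2.fromSpec p ∈ Set.range U.2.fromSpec := ⟨p, rfl⟩
    rwa [U.2.range_fromSpec] at h
  haveI := Lib.JacCrit.OverField.isRegularLocalRing_stalk f (U.2.fromSpec p)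
    (by rw [Scheme.Hom.smoothLocus_eq_top f]; trivial)
  letI := X.presheaf.algebra_section_stalk ⟨U.2.fromSpec p, hy⟩
  haveI : IsLocalization.AtPrime (X.presheaf.stalk (U.2.fromSpec p)) P :=
    U.2.isLocalization_stalk' p hy
  exact IsRegularLocalRing.of_ringEquiv (R := X.presheaf.stalk (U.2.fromSpec p))
    (IsLocalization.algEquiv P.primeCompl (X.presheaf.stalk (U.2.fromSpec p))
      (Localization.AtPrime P)).toRingEquiv

include f in
theorem isIntegrallyClosed [IsIntegral X] (U : X.affineOpens) [Nonempty U.1] :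
    IsIntegrallyClosed Γ(X, U.1) :=
  IsIntegrallyClosed.of_localization_maximal fun P _ hP =>
    haveI := isRegularLocalRing f U P
    Lib.Regular.UFD.isIntegrallyClosed _

end Smooth

theorem formallySmooth_of_retraction {k P A : Type u} [CommRing k] [CommRing P] [CommRing A]
    [Algebra k P] [Algebra k A] [Algebra.FormallySmooth k P] (π : P →ₐ[k] A)
    (hπ : Function.Surjective π) (ψ : P →ₐ[k] P) (hker : ∀ a, π a = 0 → ψ a = 0)
    (hψ : ∀ a, π (ψ a) = π a) : Algebra.FormallySmooth k A := by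
  have hK : ∀ a, π a = 0 →
      ((Ideal.Quotient.mkₐ k (RingHom.ker π.toRingHom ^ 2)).comp ψ) a = 0 := fun a ha => by
    show Ideal.Quotient.mk (RingHom.ker π.toRingHom ^ 2) (ψ a) = 0
    rw [hker a ha, map_zero]
  let g : A →ₐ[k] P ⧸ RingHom.ker π.toRingHom ^ 2 :=
    (Ideal.Quotient.liftₐ (RingHom.ker π.toRingHom)
      ((Ideal.Quotient.mkₐ k (RingHom.ker π.toRingHom ^ 2)).comp ψ) hK).comp
      (Ideal.quotientKerAlgEquivOfSurjective hπ).symm.toAlgHom
  refine Algebra.FormallySmooth.of_split π g (AlgHom.ext fun y => ?_)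
  obtain ⟨a, rfl⟩ := hπ y
  have e : (Ideal.quotientKerAlgEquivOfSurjective hπ).symm (π a) = Ideal.Quotient.mk _ a :=
    (Ideal.quotientKerAlgEquivOfSurjective hπ).symm_apply_eq.mpr rfl
  show π.kerSquareLift (g (π a)) = π a
  have h1 : g (π a) = Ideal.Quotient.mk (RingHom.ker π.toRingHom ^ 2) (ψ a) := by
    show Ideal.Quotient.liftₐ _ _ hK ((Ideal.quotientKerAlgEquivOfSurjective hπ).symm (π a)) = _
    rw [e]
    rfl
  rw [h1]
  exact (AlgHom.kerSquareLift_mk π (ψ a)).trans (hψ a)

theorem formallySmooth_quotient_X {k σ : Type u} [CommRing k] (e : σ) :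
    Algebra.FormallySmooth k (MvPolynomial σ k ⧸ Ideal.span ({MvPolynomial.X e} : Set (MvPolynomial σ k))) := by
  classical
  let ψ : MvPolynomial σ k →ₐ[k] MvPolynomial σ k :=
    MvPolynomial.aeval fun i => if i = e then 0 else MvPolynomial.X i
  refine formallySmooth_of_retraction (Ideal.Quotient.mkₐ k _) Ideal.Quotient.mk_surjective ψ
    (fun a ha => ?_) (fun a => ?_)
  · obtain ⟨c, rfl⟩ := Ideal.mem_span_singleton.mp (Ideal.Quotient.eq_zero_iff_mem.mp ha)
    simp [ψ]
  · suffices h : (Ideal.Quotient.mkₐ k (Ideal.span ({MvPolynomial.X e} : Set (MvPolynomial σ k)))).comp ψ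
        = Ideal.Quotient.mkₐ k _ from AlgHom.congr_fun h a
    refine MvPolynomial.algHom_ext fun i => ?_
    by_cases h : i = e
    · subst h
      simp [ψ]
    · simp [ψ, h]

/-- Along an étale chart a coordinate hyperplane is regular. -/
theorem regular_quotient_of_etale {k σ : Type u} [Field k] [Finite σ] {B : Type u} [CommRing B]
    (ψ : MvPolynomial σ k →+* B) (hψ : ψ.Etale) (e : σ) :
    (Nontrivial B → ψ (MvPolynomial.X e) ≠ 0) ∧
      ∀ (Q : Ideal (B ⧸ Ideal.span ({ψ (MvPolynomial.X e)} : Set B))) [Q.IsPrime],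
        IsRegularLocalRing (Localization.AtPrime Q) := by
  letI := ψ.toAlgebra
  haveI : Algebra.Etale (MvPolynomial σ k) B := hψ
  constructor
  · intro hB h
    have hreg : IsSMulRegular B (MvPolynomial.X e : MvPolynomial σ k) :=
      Module.Flat.isSMulRegular_of_nonZeroDivisors
        (mem_nonZeroDivisors_of_ne_zero (MvPolynomial.X_ne_zero e))
    exact one_ne_zero (α := B) (hreg (show (MvPolynomial.X e : MvPolynomial σ k) • (1 : B) =
      (MvPolynomial.X e : MvPolynomial σ k) • 0 by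
      rw [smul_zero, Algebra.smul_def, mul_one]; exact h))
  let I : Ideal (MvPolynomial σ k) := Ideal.span {MvPolynomial.X e}
  have hI : I.map (algebraMap (MvPolynomial σ k) B) = Ideal.span {ψ (MvPolynomial.X e)} := by
    rw [Ideal.map_span, Set.image_singleton]; rfl
  rw [← hI]
  let S := B ⧸ I.map (algebraMap (MvPolynomial σ k) B)
  haveI : Algebra.Etale (MvPolynomial σ k ⧸ I) S :=
    Algebra.Etale.of_equiv (A := (MvPolynomial σ k ⧸ I) ⊗[MvPolynomial σ k] B)
      (Algebra.TensorProduct.quotIdealMapEquivQuotTensor B I).symm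
  haveI : Algebra.FormallySmooth k (MvPolynomial σ k ⧸ I) := formallySmooth_quotient_X e
  haveI : Algebra.FinitePresentation k (MvPolynomial σ k ⧸ I) :=
    Algebra.FinitePresentation.quotient (Submodule.fg_span_singleton _)
  letI algS : Algebra k S :=
    ((algebraMap (MvPolynomial σ k ⧸ I) S).comp (algebraMap k (MvPolynomial σ k ⧸ I))).toAlgebra
  haveI : IsScalarTower k (MvPolynomial σ k ⧸ I) S :=
    IsScalarTower.of_algebraMap_eq (R := k) (S := MvPolynomial σ k ⧸ I) (A := S) fun _ => rfl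
  haveI : Algebra.Smooth k (MvPolynomial σ k ⧸ I) := ⟨‹_›, ‹_›⟩
  haveI : Algebra.Smooth k S := Algebra.Smooth.comp k (MvPolynomial σ k ⧸ I) S
  intro Q _
  haveI : Algebra.FormallySmooth S (Localization.AtPrime Q) :=
    Algebra.FormallySmooth.of_isLocalization Q.primeCompl
  haveI : Algebra.IsSmoothAt k Q := Algebra.FormallySmooth.comp k S (Localization.AtPrime Q)
  exact Lib.JacCrit.RegularOfSmooth.isRegularLocalRing k Q

/-- a local equation of a component of a normal crossing divisor -/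
theorem exists_chart {k : Type u} [Field k] {X : Scheme.{u}} (f : X ⟶ Spec (CommRingCat.of k))
    {r : ℕ} (D : Fin r → X.IdealSheafData) (hD : LogNCD.IsNCD D f) (x : X) (j : Fin r)
    (hx : x ∈ (D j).support) :
    ∃ W : X.Opens, x ∈ W ∧ ∀ U : X.affineOpens, U.1 ≤ W → ∃ a : Γ(X, U.1),
      (D j).ideal U = Ideal.span {a} ∧ (Nonempty U.1 → a ≠ 0) ∧
      ∀ (Q : Ideal (Γ(X, U.1) ⧸ Ideal.span ({a} : Set Γ(X, U.1)))) [Q.IsPrime],
        IsRegularLocalRing (Localization.AtPrime Q) := by
  obtain ⟨W, hxW, n, v, e, he, het, heq, -⟩ := hD x ⟨⟨j, hx⟩⟩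
  refine ⟨W, hxW, fun U hU => ?_⟩
  let σ := ULift.{u} (Fin n)
  let h₁ := AffineSpace.homOfVector (W.ι ≫ f) v
  haveI : Etale h₁ := het
  let g : (U.1 : Scheme.{u}) ⟶ Spec (CommRingCat.of (MvPolynomial σ k)) :=
    X.homOfLE hU ≫ h₁ ≫ (AffineSpace.SpecIso σ (CommRingCat.of k)).hom
  haveI : IsAffine (U.1 : Scheme.{u}) := U.2
  have hg : g.appTop.hom.Etale := HasRingHomProperty.appTop (P := @Etale) g inferInstance
  let ψ : MvPolynomial σ k →+* Γ(X, U.1) :=
    ((U.1.topIso.hom).hom.comp g.appTop.hom).comp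
      (Scheme.ΓSpecIso (CommRingCat.of (MvPolynomial σ k))).inv.hom
  have hψ : ψ.Etale := RingHom.Etale.respectsIso.2 _
    (Scheme.ΓSpecIso (CommRingCat.of (MvPolynomial σ k))).symm.commRingCatIsoToRingEquiv
    (RingHom.Etale.respectsIso.1 _ U.1.topIso.commRingCatIsoToRingEquiv hg)
  let i : σ := ULift.up (e ⟨j, hx⟩)
  obtain ⟨h0, hreg⟩ := regular_quotient_of_etale ψ hψ i
  have hval : ψ (MvPolynomial.X i) = LogNCD.sectOn W hU (v i) := by
    show U.1.topIso.hom (g.appTop ((Scheme.ΓSpecIso _).inv (MvPolynomial.X i))) = _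
    have h2 : (AffineSpace.SpecIso σ (CommRingCat.of k)).hom.appTop
        ((Scheme.ΓSpecIso (CommRingCat.of (MvPolynomial σ k))).inv (MvPolynomial.X i)) =
        AffineSpace.coord (Spec (CommRingCat.of k)) i := by
      rw [← AffineSpace.SpecIso_inv_appTop_coord (R := CommRingCat.of k) i, ← CommRingCat.comp_apply,
        ← Scheme.Hom.comp_appTop, Iso.hom_inv_id, Scheme.Hom.id_appTop]
      rfl
    simp only [g, Scheme.Hom.comp_appTop, CommRingCat.comp_apply]
    rw [h2, AffineSpace.homOfVector_appTop_coord]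
    change ((X.homOfLE hU).appTop ≫ U.1.topIso.hom) (v i) =
      (W.topIso.hom ≫ X.presheaf.map (homOfLE hU).op) (v i)
    congr 2
    rw [Scheme.Hom.appTop, Scheme.homOfLE_app]
    change X.presheaf.map _ ≫ X.presheaf.map _ = X.presheaf.map _ ≫ X.presheaf.map _
    erw [← Functor.map_comp, ← Functor.map_comp]
    exact congrArg _ (Subsingleton.elim _ _)
  refine ⟨ψ (MvPolynomial.X i), ?_, fun hne => h0 ?_, hreg⟩
  · rw [hval]; exact heq ⟨j, hx⟩ U hU
  · infer_instance

end Groth.Agent.H95.CycCover.Base
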