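import Groth.Prelude.Def_CycCov
import Groth.Agent.Lib.Ample.GenLocus

/-!
Frames of tensor powers.
-/

set_option autoImplicit false
universe u
open CategoryTheory AlgebraicGeometry TopologicalSpace Opposite
open Groth.Agent.Lib.TensorMod.Gen Groth.Agent.Lib.TensorMod.Dual Groth.Agent.Lib.Ample.GenLocus

namespace Groth.Agent.H95.CycCover.Frames

variable {X : Scheme.{u}} {L : X.Modules}

theorem isGen_lpow {U : X.Opens} {e : Γ(L, U)} (he : IsGen L U e) :
    ∀ n : ℕ, IsGen (CohB1.tensorPow L n) U (CycCov.lpow L U e n)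
  | 0 => isGen_one U
  | n + 1 => isGen_tmul (isGen_lpow he n) he

theorem rs_lpow {U V : X.Opens} (h : V ≤ U) (e : Γ(L, U)) :
    ∀ n : ℕ, rs (CohB1.tensorPow L n) h (CycCov.lpow L U e n : Γ(CohB1.tensorPow L n, U)) =
      CycCov.lpow L V (rs L h e) n
  | 0 => map_one (X.presheaf.map (homOfLE h).op).hom
  | n + 1 => (rs_tmul h _ _).trans
      (congrArg (fun t => SecTwist.tmul (CohB1.tensorPow L n) L V t (rs L h e)) (rs_lpow h e n))

theorem cycIsGen {U : X.Opens} {e : Γ(L, U)} (he : IsGen L U e) : CycCov.IsGen L U e := by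
  have := he U le_rfl
  simp only [rs_self] at this
  exact this

/-- the coordinate of a global section of `L^{⊗N}` in a frame -/
theorem exists_phi {N : ℕ} (s : Coh.structureModule X ⟶ CohB1.tensorPow L N) {U : X.Opens}
    {e : Γ(L, U)} (he : IsGen L U e) :
    ∃ φ : Γ(X, U), SecTwist.val s U = φ • CycCov.lpow L U e N := by
  obtain ⟨φ, hφ⟩ := exists_coord (isGen_lpow he N) (SecTwist.val s U)
  exact ⟨φ, hφ⟩

theorem phi_res {N : ℕ} (s : Coh.structureModule X ⟶ CohB1.tensorPow L N) {U V : X.Opens}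
    (h : V ≤ U) (e : Γ(L, U)) (φ : Γ(X, U))
    (hφ : SecTwist.val s U = φ • CycCov.lpow L U e N) :
    SecTwist.val s V = X.presheaf.map (homOfLE h).op φ • CycCov.lpow L V (rs L h e) N := by
  rw [← rs_lpow h e N]
  refine (rs_sv s h).symm.trans ?_
  rw [show sv s U = φ • (CycCov.lpow L U e N : Γ(CohB1.tensorPow L N, U)) from hφ]
  exact rs_smul (CohB1.tensorPow L N) h φ _

/-- the ideal of zeros in a frame -/
theorem span_phi {N : ℕ} (s : Coh.structureModule X ⟶ CohB1.tensorPow L N) {I : X.IdealSheafData}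
    (hs : CycCov.IsZeroDiv (CohB1.tensorPow L N) s I) (U : X.affineOpens) {e : Γ(L, U.1)}
    (he : IsGen L U.1 e) (φ : Γ(X, U.1)) (hφ : SecTwist.val s U.1 = φ • CycCov.lpow L U.1 e N) :
    I.ideal U = Ideal.span {φ} := by
  have hg := cycIsGen (isGen_lpow he N)
  unfold CycCov.IsGen at hg
  have h := hs U
  rw [hφ] at h
  have htop : (⊤ : Submodule Γ(X, U.1) ((CohB1.tensorPow L N).val.obj (op U.1))) =
      Submodule.span Γ(X, U.1) {CycCov.lpow L U.1 e N} := by
    refine (eq_top_iff.mpr fun x _ => ?_).symm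
    obtain ⟨b, rfl⟩ := hg.2 x
    exact Submodule.smul_mem _ _ (Submodule.subset_span rfl)
  rw [htop] at h
  ext y
  rw [Ideal.mem_span_singleton']
  constructor
  · intro hy
    have h1 : y • CycCov.lpow L U.1 e N ∈
        I.ideal U • Submodule.span Γ(X, U.1) {CycCov.lpow L U.1 e N} :=
      Submodule.smul_mem_smul hy (Submodule.subset_span rfl)
    rw [← h, Submodule.mem_span_singleton] at h1
    obtain ⟨c, hc⟩ := h1
    exact ⟨c, hg.1 (by simpa only [mul_smul] using hc)⟩
  · rintro ⟨c, rfl⟩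
    have h1 : φ • CycCov.lpow L U.1 e N ∈
        I.ideal U • Submodule.span Γ(X, U.1) {CycCov.lpow L U.1 e N} := by
      rw [← h]; exact Submodule.subset_span rfl
    rw [Submodule.mem_smul_span_singleton] at h1
    obtain ⟨z, hz, hzy⟩ := h1
    exact Ideal.mul_mem_left _ _ ((hg.1 hzy) ▸ hz)

end Groth.Agent.H95.CycCover.Frames
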