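import Groth.Agent.H95.CycCover.Local

/-!
Globalisation for cyclic covers.
-/

set_option autoImplicit false
set_option linter.style.haveILetI false
universe u
open CategoryTheory AlgebraicGeometry TopologicalSpace Opposite
open Groth.Agent.Lib.TensorMod.Gen Groth.Agent.Lib.TensorMod.Dual

namespace Groth.Agent.H95.CycCover.Glue

variable {k : Type u} [Field k] {X Y : Scheme.{u}} [IsIntegral X]
  (f : X ⟶ Spec (CommRingCat.of k)) [Smooth f] {L : X.Modules} {N : ℕ}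
  {s : Coh.structureModule X ⟶ CohB1.tensorPow L N} {π : Y ⟶ X} (R : CycCov.Root L N s π)
  {r : ℕ} (D : Fin r → X.IdealSheafData) (α : Fin r → ℕ)

/-- An affine open around `x` on which the divisor has at most one component among `J`. -/
theorem exists_local (hL : PicF.IsInvertible L) (hD : LogNCD.IsNCD D f)
    (hs : CycCov.IsZeroDiv (CohB1.tensorPow L N) s (CycCov.divIdeal D α))
    (J : Fin r → Prop) (hJα : ∀ j, 0 < α j → J j) (x : X)
    (hJ : ∀ j j', J j → J j' → x ∈ (D j).support → x ∈ (D j').support → j = j')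
    {O : X.Opens} (hx : x ∈ O) :
    ∃ (U : X.affineOpens) (e : Γ(L, U.1)) (a : Γ(X, U.1)) (u₀ : Γ(X, U.1)ˣ) (β : ℕ),
      x ∈ U.1 ∧ U.1 ≤ O ∧ IsGen L U.1 e ∧
      SecTwist.val s U.1 = ((u₀ : Γ(X, U.1)) * a ^ β) • CycCov.lpow L U.1 e N ∧ a ≠ 0 ∧
      (∀ (P : Ideal (Γ(X, U.1) ⧸ Ideal.span ({a} : Set Γ(X, U.1)))) [P.IsPrime],
        IsRegularLocalRing (Localization.AtPrime P)) ∧
      (∀ j, J j → x ∈ (D j).support →
        (D j).ideal U = Ideal.span {a} ∧ β = α j) ∧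
      (∀ j, J j → x ∉ (D j).support → (D j).ideal U = ⊤) ∧
      ((∀ j, J j → x ∉ (D j).support) → IsUnit a) := by
  classical
  obtain ⟨W₁, e₁, hxW₁, he₁⟩ := (isInvertible_iff.mp hL) x
  have hopen : IsOpen (⋂ j : {j : Fin r // J j ∧ x ∉ (D j).support}, ((D j.1).support : Set X)ᶜ) :=
    isOpen_iInter_of_finite fun j => (D j.1).support.isClosed.isOpen_compl
  let W₂ : X.Opens := ⟨_, hopen⟩
  have hxW₂ : x ∈ W₂ := Set.mem_iInter.mpr fun j => j.2.2
  have htop : ∀ (U : X.affineOpens), U.1 ≤ W₂ → ∀ j, J j → x ∉ (D j).support → (D j).ideal U = ⊤ :=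
    fun U hU j hj hxj => Base.ideal_eq_top_of_disjoint _ U
      (Set.disjoint_left.mpr fun y hy hy' => Set.mem_iInter.mp (hU hy) ⟨j, hj, hxj⟩ hy')
  by_cases hcase : ∃ j, J j ∧ x ∈ (D j).support
  · obtain ⟨j, hj, hxj⟩ := hcase
    obtain ⟨W₃, hxW₃, hW₃⟩ := Base.exists_chart f D hD x j hxj
    obtain ⟨U, hU, hxU, hle⟩ := exists_isAffineOpen_mem_and_subset (X := X) (x := x)
      (U := W₁ ⊓ W₂ ⊓ W₃ ⊓ O) ⟨⟨⟨hxW₁, hxW₂⟩, hxW₃⟩, hx⟩
    haveI : Nonempty (⟨U, hU⟩ : X.affineOpens).1 := ⟨⟨x, hxU⟩⟩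
    obtain ⟨a, ha, ha0, hreg⟩ := hW₃ ⟨U, hU⟩ (hle.trans (inf_le_left.trans inf_le_right))
    have he := he₁.res (hle.trans (inf_le_left.trans (inf_le_left.trans inf_le_left)))
    obtain ⟨φ, hφ⟩ := Frames.exists_phi s he
    have hother : ∀ j', j' ≠ j → (D j').ideal ⟨U, hU⟩ ^ α j' = 1 := by
      intro j' hne
      rcases Nat.eq_zero_or_pos (α j') with h0 | h0
      · rw [h0, pow_zero]
      · rw [htop ⟨U, hU⟩ (hle.trans (inf_le_left.trans (inf_le_left.trans inf_le_right))) j'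
          (hJα _ h0) (fun h => hne (hJ j' j (hJα _ h0) hj h hxj)), ← Ideal.one_eq_top, one_pow]
    have hspan := Frames.span_phi s hs ⟨U, hU⟩ he φ hφ
    rw [Base.divIdeal_ideal, Fintype.prod_eq_single j hother, ha, Ideal.span_singleton_pow,
      Ideal.span_singleton_eq_span_singleton] at hspan
    obtain ⟨u₀, hu₀⟩ := hspan
    refine ⟨⟨U, hU⟩, _, a, u₀, α j, hxU, hle.trans inf_le_right, he, ?_, ha0 inferInstance, hreg,
      fun j' hj' hxj' => ?_, htop ⟨U, hU⟩ (hle.trans (inf_le_left.trans (inf_le_left.trans inf_le_right))),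
      fun h => absurd hxj (h j hj)⟩
    · rw [hφ, ← hu₀, mul_comm (a ^ α j)]
    · obtain rfl := hJ j' j hj' hj hxj' hxj
      exact ⟨ha, rfl⟩
  · push_neg at hcase
    obtain ⟨U, hU, hxU, hle⟩ := exists_isAffineOpen_mem_and_subset (X := X) (x := x)
      (U := W₁ ⊓ W₂ ⊓ O) ⟨⟨hxW₁, hxW₂⟩, hx⟩
    haveI : Nonempty (⟨U, hU⟩ : X.affineOpens).1 := ⟨⟨x, hxU⟩⟩
    have he := he₁.res (hle.trans (inf_le_left.trans inf_le_left))
    obtain ⟨φ, hφ⟩ := Frames.exists_phi s he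
    have htop' := htop ⟨U, hU⟩ (hle.trans (inf_le_left.trans inf_le_right))
    have hspan := Frames.span_phi s hs ⟨U, hU⟩ he φ hφ
    rw [Base.divIdeal_ideal, Finset.prod_eq_one (fun j _ => by
      rcases Nat.eq_zero_or_pos (α j) with h0 | h0
      · rw [h0, pow_zero]
      · rw [htop' j (hJα _ h0) (hcase j (hJα _ h0)), ← Ideal.one_eq_top, one_pow]),
      Ideal.one_eq_top, eq_comm, Ideal.span_singleton_eq_top] at hspan
    refine ⟨⟨U, hU⟩, _, 1, hspan.unit, 0, hxU, hle.trans inf_le_right, he, ?_, one_ne_zero, fun P hP => ?_,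
      fun j hj hxj => absurd hxj (hcase j hj), htop', fun _ => isUnit_one⟩
    · rw [hφ, pow_zero, mul_one, IsUnit.unit_spec]
    · haveI : Subsingleton (Γ(X, U) ⧸ Ideal.span ({1} : Set Γ(X, U))) :=
        Ideal.Quotient.subsingleton_iff.mpr Ideal.span_singleton_one
      exact absurd (Subsingleton.elim P ⊤) hP.ne_top

include f in
/-- regular points of the cover -/
theorem isRegularLocalRing_stalk [IsAlgClosed k] (hN : 0 < N) (hNk : (N : k) ≠ 0)
    (hR : CycCov.IsCover R) (hL : PicF.IsInvertible L) (hD : LogNCD.IsNCD D f)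
    (hs : CycCov.IsZeroDiv (CohB1.tensorPow L N) s (CycCov.divIdeal D α)) (y : Y)
    (h1 : ∀ j j', 0 < α j → 0 < α j' → π y ∈ (D j).support → π y ∈ (D j').support → j = j') :
    IsRegularLocalRing (Y.presheaf.stalk y) := by
  obtain ⟨U, e, a, u₀, β, hxU, -, he, hφ, ha, hreg, -, -, -⟩ :=
    exists_local f D α hL hD hs (fun j => 0 < α j) (fun _ h => h) (π y) h1 (O := ⊤) trivial
  haveI : Nonempty U.1 := ⟨⟨π y, hxU⟩⟩
  haveI := hR.1
  obtain ⟨h, -, -⟩ := Local.main f R hN hNk hR U he a u₀ β hφ ha hreg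
  have haff : IsAffineOpen (π ⁻¹ᵁ U.1) := U.2.preimage π
  letI := Y.presheaf.algebra_section_stalk ⟨y, show y ∈ π ⁻¹ᵁ U.1 from hxU⟩
  haveI := haff.isLocalization_stalk ⟨y, show y ∈ π ⁻¹ᵁ U.1 from hxU⟩
  haveI := h (haff.primeIdealOf ⟨y, hxU⟩).asIdeal
  exact IsRegularLocalRing.of_ringEquiv
    (R := Localization.AtPrime (haff.primeIdealOf ⟨y, hxU⟩).asIdeal)
    (IsLocalization.algEquiv (haff.primeIdealOf ⟨y, hxU⟩).asIdeal.primeCompl
      (Localization.AtPrime (haff.primeIdealOf ⟨y, hxU⟩).asIdeal) (Y.presheaf.stalk y)).toRingEquiv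

include f in
theorem smooth_preimage [IsAlgClosed k] (hN : 0 < N) (hNk : (N : k) ≠ 0)
    (hR : CycCov.IsCover R) (hL : PicF.IsInvertible L) (hD : LogNCD.IsNCD D f)
    (hs : CycCov.IsZeroDiv (CohB1.tensorPow L N) s (CycCov.divIdeal D α)) (W : X.Opens)
    (hW : ∀ x ∈ W, ∀ j j', 0 < α j → 0 < α j' → x ∈ (D j).support → x ∈ (D j').support → j = j') :
    Smooth ((π ⁻¹ᵁ W).ι ≫ π ≫ f) := by
  haveI := hR.1
  haveI : LocallyOfFinitePresentation ((π ⁻¹ᵁ W).ι ≫ π ≫ f) :=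
    Lib.JacCrit.OverField.locallyOfFinitePresentation _
  rw [← Scheme.Hom.smoothLocus_eq_top_iff, ← top_le_iff]
  intro y _
  haveI := isRegularLocalRing_stalk f R D α hN hNk hR hL hD hs y.1 (hW _ y.2)
  exact Lib.JacCrit.OverField.mem_smoothLocus_of_isRegular _ y
    (IsRegularLocalRing.of_ringEquiv (R := Y.presheaf.stalk y.1)
      ((π ⁻¹ᵁ W).stalkIso y).symm.commRingCatIsoToRingEquiv)

include f in
theorem etale_restrict [IsAlgClosed k] (hN : 0 < N) (hNk : (N : k) ≠ 0)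
    (hR : CycCov.IsCover R) (hL : PicF.IsInvertible L) (hD : LogNCD.IsNCD D f)
    (hs : CycCov.IsZeroDiv (CohB1.tensorPow L N) s (CycCov.divIdeal D α)) (W : X.Opens)
    (hW : ∀ j, 0 < α j → Disjoint (W : Set X) ((D j).support : Set X)) :
    Etale (π ∣_ W) := by
  haveI := hR.1
  have hout : ∀ x ∈ W, ∀ j, 0 < α j → x ∉ (D j).support := fun x hx j hj h =>
    Set.disjoint_left.mp (hW j hj) hx h
  have hloc : ∀ x : W, ∃ U : X.affineOpens, x.1 ∈ U.1 ∧ U.1 ≤ W ∧ Etale (π ∣_ U.1) := by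
    intro x
    obtain ⟨U, e, a, u₀, β, hxU, hUW, he, hφ, ha, hreg, -, -, hunit⟩ :=
      exists_local f D α hL hD hs (fun j => 0 < α j) (fun _ h => h) x.1
        (fun j _ hj _ h => absurd h (hout x.1 x.2 j hj)) (O := W) x.2
    haveI : Nonempty U.1 := ⟨⟨x.1, hxU⟩⟩
    obtain ⟨-, -, h3⟩ := Local.main f R hN hNk hR U he a u₀ β hφ ha hreg
    have het := h3 (hunit fun j hj => hout x.1 x.2 j hj)
    refine ⟨U, hxU, hUW, ?_⟩
    haveI : IsAffine (U.1 : Scheme.{u}) := U.2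
    haveI : IsAffine ((π ⁻¹ᵁ U.1 : Y.Opens) : Scheme.{u}) := U.2.preimage π
    rw [HasRingHomProperty.iff_of_isAffine (P := @Etale), morphismRestrict_appTop]
    have h4 : ∀ V : X.Opens, V = U.1 → (π.app V).hom.Etale := by rintro V rfl; exact het
    change ((Y.presheaf.map (eqToHom (image_morphismRestrict_preimage π U.1 ⊤)).op).hom.comp
      (π.app (U.1.ι ''ᵁ ⊤)).hom).Etale
    exact RingHom.Etale.respectsIso.1 _ (asIso (Y.presheaf.map
      (eqToHom (image_morphismRestrict_preimage π U.1 ⊤)).op)).commRingCatIsoToRingEquiv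
      (h4 _ U.1.ι_image_top)
  choose U hxU hUW hU using hloc
  haveI hloc' : IsZariskiLocalAtTarget (@Etale : MorphismProperty Scheme.{u}) :=
    HasRingHomProperty.instIsZariskiLocalAtTarget (P := @Etale) (Q := RingHom.Etale)
  haveI : MorphismProperty.RespectsIso (@Etale : MorphismProperty Scheme.{u}) := by
    exact hloc'.1
  refine IsZariskiLocalAtTarget.of_iSup_eq_top (P := (@Etale : MorphismProperty Scheme.{u}))
    (fun x : W => W.ι ⁻¹ᵁ (U x).1) (top_le_iff.mp fun x _ => TopologicalSpace.Opens.mem_iSup.mpr ⟨x, hxU x⟩)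
    fun x => ?_
  have hEq : W.ι ''ᵁ (W.ι ⁻¹ᵁ (U x).1) = (U x).1 := by
    rw [Scheme.Hom.image_preimage_eq_opensRange_inf, Scheme.Opens.opensRange_ι, inf_eq_right]
    exact hUW x
  rw [MorphismProperty.arrow_mk_iso_iff @Etale
    (morphismRestrictRestrict π W (W.ι ⁻¹ᵁ (U x).1) ≪≫ morphismRestrictEq π hEq)]
  exact hU x

omit [IsIntegral X] in
/-- equality of ideal sheaves on an affine open from equality on a cover -/
theorem ideal_eq_of_cover {I J : Y.IdealSheafData} (V : Y.affineOpens)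
    (h : ∀ y : Y, y ∈ V.1 → ∃ T : Y.affineOpens, y ∈ T.1 ∧ I.ideal T = J.ideal T) :
    I.ideal V = J.ideal V := by
  haveI : IsAffine (V.1 : Scheme.{u}) := V.2
  have key : I.comap V.1.ι = J.comap V.1.ι := by
    have hc : ∀ y : V.1, ∃ T : (V.1 : Scheme.{u}).affineOpens, y ∈ T.1 ∧
        (I.comap V.1.ι).ideal T = (J.comap V.1.ι).ideal T := by
      intro y
      obtain ⟨T, hyT, hT⟩ := h y.1 y.2
      obtain ⟨T', hT', hyT', hle⟩ := exists_isAffineOpen_mem_and_subset (X := (V.1 : Scheme.{u}))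
        (x := y) (U := V.1.ι ⁻¹ᵁ T.1) hyT
      refine ⟨⟨T', hT'⟩, hyT', ?_⟩
      have hle' : V.1.ι ''ᵁ T' ≤ T.1 := by
        rintro _ ⟨z, hz, rfl⟩
        exact hle hz
      rw [Scheme.IdealSheafData.ideal_comap_of_isOpenImmersion,
        Scheme.IdealSheafData.ideal_comap_of_isOpenImmersion,
        ← I.map_ideal (U := ⟨_, hT'.image_of_isOpenImmersion V.1.ι⟩) (V := T) hle',
        ← J.map_ideal (U := ⟨_, hT'.image_of_isOpenImmersion V.1.ι⟩) (V := T) hle', hT]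
    choose T hyT hT using hc
    exact Scheme.IdealSheafData.ext_of_iSup_eq_top T
      (top_le_iff.mp fun y _ => TopologicalSpace.Opens.mem_iSup.mpr ⟨y, hyT y⟩) hT
  have h2 := congrArg (fun K : (V.1 : Scheme.{u}).IdealSheafData => K.ideal ⟨⊤, isAffineOpen_top _⟩) key
  simp only [Lib.Ideal.Comap.ideal_comap_ι_top] at h2
  have h3 := congrArg (Ideal.map V.1.topIso.hom.hom) h2
  rwa [Ideal.map_map, ← CommRingCat.hom_comp, Iso.inv_hom_id, CommRingCat.hom_id, Ideal.map_id,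
    Ideal.map_map, ← CommRingCat.hom_comp, Iso.inv_hom_id, CommRingCat.hom_id, Ideal.map_id] at h3

include f in
/-- the pull-backs of the components near a point with one component -/
theorem exists_uniformizer [IsAlgClosed k] (hN : 0 < N) (hNk : (N : k) ≠ 0)
    (hR : CycCov.IsCover R) (hL : PicF.IsInvertible L) (hD : LogNCD.IsNCD D f)
    (hs : CycCov.IsZeroDiv (CohB1.tensorPow L N) s (CycCov.divIdeal D α)) (y : Y)
    (h1 : ∀ j j', π y ∈ (D j).support → π y ∈ (D j').support → j = j') :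
    ∃ T : Y.affineOpens, y ∈ T.1 ∧ ∀ j, ((D j).comap π).ideal T =
      (((D j).comap π).ideal T).radical ^ (N / Nat.gcd N (α j)) := by
  obtain ⟨U, e, a, u₀, β, hxU, -, he, hφ, ha, hreg, hin, hout, -⟩ :=
    exists_local f D α hL hD hs (fun _ => True) (fun _ _ => trivial) (π y)
      (fun j j' _ _ => h1 j j') (O := ⊤) trivial
  haveI : Nonempty U.1 := ⟨⟨π y, hxU⟩⟩
  haveI := hR.1
  obtain ⟨-, ⟨σ, w, hw, hσ, hrad⟩, -⟩ := Local.main f R hN hNk hR U he a u₀ β hφ ha hreg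
  refine ⟨⟨π ⁻¹ᵁ U.1, U.2.preimage π⟩, hxU, fun j => ?_⟩
  rw [Lib.Ideal.Comap.ideal_comap π (D j) U ⟨π ⁻¹ᵁ U.1, U.2.preimage π⟩ le_rfl,
    ← Scheme.Hom.app_eq_appLE]
  by_cases hxj : π y ∈ (D j).support
  · obtain ⟨ha', rfl⟩ := hin j trivial hxj
    have hn : 0 < N / Nat.gcd N (α j) :=
      Nat.div_pos (Nat.le_of_dvd hN (Nat.gcd_dvd_left _ _)) (Nat.gcd_pos_of_pos_left _ hN)
    rw [ha', Ideal.map_span, Set.image_singleton, ← Ideal.span_singleton_mul_left_unit hw, ← hσ,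
      ← Ideal.span_singleton_pow, Ideal.radical_pow _ hn.ne', hrad.radical]
  · rw [hout j trivial hxj, Ideal.map_top, Ideal.radical_top, ← Ideal.one_eq_top, one_pow]

end Groth.Agent.H95.CycCover.Glue
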