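import Groth.Agent.H95.CycCover.Base
import Groth.Agent.H95.CycCover.Frames
import Groth.Agent.H95.CycAlg.Cover
import Mathlib.RingTheory.Etale.StandardEtale
import Mathlib.RingTheory.LocalProperties.Reduced
import Mathlib.FieldTheory.IsAlgClosed.Basic
import Mathlib.RingTheory.RootsOfUnity.AlgebraicallyClosed

/-!
The normalised cyclic cover over a small affine open.
-/

set_option autoImplicit false
set_option linter.style.haveILetI false
universe u
open CategoryTheory AlgebraicGeometry TopologicalSpace Opposite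
open Groth.Agent.Lib.TensorMod.Gen Groth.Agent.Lib.TensorMod.Dual

namespace Groth.Agent.H95.CycCover.Local

theorem etale_adjoinRoot {B : Type u} [CommRing B] {N : ℕ} (hN : 0 < N) (φ : B)
    (hφ : IsUnit φ) (hNu : IsUnit (N : B)) :
    Algebra.Etale B (AdjoinRoot (Polynomial.X ^ N - Polynomial.C φ : Polynomial B)) := by
  obtain ⟨c, hc⟩ := (hNu.mul hφ).exists_left_inv
  let P : StandardEtalePair B :=
    { f := Polynomial.X ^ N - Polynomial.C φ
      monic_f := Polynomial.monic_X_pow_sub_C φ hN.ne'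
      g := 1
      cond := ⟨Polynomial.C c * Polynomial.X, -(Polynomial.C (c * N)), 1, by
        obtain ⟨m, rfl⟩ : ∃ m, N = m + 1 := ⟨N - 1, by omega⟩
        have h := congrArg Polynomial.C hc
        simp only [map_mul, map_one, map_natCast] at h
        simp only [Polynomial.derivative_sub, Polynomial.derivative_X_pow, Polynomial.derivative_C,
          map_mul, map_natCast, Nat.add_sub_cancel, sub_zero, pow_one]
        linear_combination h⟩ }
  let a := AdjoinRoot.mk P.f P.g
  let e : P.Ring ≃ₐ[B] Localization.Away a := P.equivAwayAdjoinRoot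
  let e' : AdjoinRoot P.f ≃ₐ[B] Localization.Away a :=
    (IsLocalization.atUnit (AdjoinRoot P.f) (Localization.Away a) a (by simp [a, P])).restrictScalars B
  exact Algebra.Etale.of_equiv (e.trans e'.symm)

variable {k : Type u} [Field k] {X Y : Scheme.{u}} [IsIntegral X]
  (f : X ⟶ Spec (CommRingCat.of k)) [Smooth f] {L : X.Modules} {N : ℕ}
  {s : Coh.structureModule X ⟶ CohB1.tensorPow L N} {π : Y ⟶ X} (R : CycCov.Root L N s π)

set_option maxHeartbeats 1600000 in
include f in
/-- The cover over an affine open with a frame where `s = u·a^β e^N` and `a` cuts a regular divisor. -/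
theorem main [IsAlgClosed k] (hN : 0 < N) (hNk : (N : k) ≠ 0) (hR : CycCov.IsCover R)
    (U : X.affineOpens) [Nonempty U.1] {e : Γ(L, U.1)} (he : IsGen L U.1 e)
    (a : Γ(X, U.1)) (u₀ : Γ(X, U.1)ˣ) (β : ℕ)
    (hφ : SecTwist.val s U.1 = ((u₀ : Γ(X, U.1)) * a ^ β) • CycCov.lpow L U.1 e N) (ha : a ≠ 0)
    (hD : ∀ (P : Ideal (Γ(X, U.1) ⧸ Ideal.span ({a} : Set Γ(X, U.1)))) [P.IsPrime],
      IsRegularLocalRing (Localization.AtPrime P)) :
    (∀ (Q : Ideal Γ(Y, π ⁻¹ᵁ U.1)) [Q.IsPrime], IsRegularLocalRing (Localization.AtPrime Q)) ∧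
      (∃ (σ w : Γ(Y, π ⁻¹ᵁ U.1)), IsUnit w ∧ σ ^ (N / Nat.gcd N β) = w * (π.app U.1).hom a ∧
        (Ideal.span ({σ} : Set Γ(Y, π ⁻¹ᵁ U.1))).IsRadical) ∧
      (IsUnit a → (π.app U.1).hom.Etale) := by
  classical
  haveI := hR.1
  obtain ⟨W₀, hW₀, hW₀', hchart⟩ := hR.2.2
  haveI : IsReduced Y := by
    haveI : ∀ y : Y, _root_.IsReduced (Y.presheaf.stalk y) := fun y =>
      haveI := (hR.2.1 y).1
      inferInstance
    exact isReduced_of_isReduced_stalk Y
  let B := Γ(X, U.1)
  let A := Γ(Y, π ⁻¹ᵁ U.1)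
  letI : Algebra B A := (π.app U.1).hom.toAlgebra
  haveI : Module.Finite B A := π.finite_app U.1 U.2
  haveI : IsNoetherianRing B := Base.isNoetherianRing f U
  haveI : IsDomain B := inferInstanceAs (IsDomain Γ(X, U.1))
  haveI : IsIntegrallyClosed B := Base.isIntegrallyClosed f U
  let κ : k →+* B :=
    ((X.presheaf.map (homOfLE (le_top : U.1 ≤ ⊤)).op).hom.comp f.appTop.hom).comp
      (Scheme.ΓSpecIso (CommRingCat.of k)).inv.hom
  have hNu : IsUnit (N : B) := by
    rw [← map_natCast κ]; exact (isUnit_iff_ne_zero.mpr hNk).map κ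
  haveI : NeZero (N : k) := ⟨hNk⟩
  obtain ⟨ζ₀, hζ₀⟩ := HasEnoughRootsOfUnity.exists_primitiveRoot k N
  have hζ : IsPrimitiveRoot (κ ζ₀) N := hζ₀.map_of_injective κ.injective
  set φ : B := (u₀ : B) * a ^ β with hφdef
  -- a basic open inside the good locus
  obtain ⟨x, hxU, hxW⟩ : ∃ x, x ∈ (U.1 : Set X) ∧ x ∈ (W₀ : Set X) := by
    obtain ⟨⟨p, hp⟩⟩ := ‹Nonempty U.1›
    obtain ⟨x, h1, h2⟩ := hW₀.inter_open_nonempty _ U.1.2 ⟨p, hp⟩
    exact ⟨x, h1, h2⟩
  obtain ⟨g₀, hg₀W, hxg₀⟩ := U.2.exists_basicOpen_le (V := U.1 ⊓ W₀) ⟨x, hxU, hxW⟩ hxU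
  have hne : ∀ b : B, b ≠ 0 → X.basicOpen b ≠ ⊥ := fun b hb h => hb (eq_zero_of_basicOpen_eq_bot b h)
  have hg₀ : g₀ ≠ 0 := by
    rintro rfl
    rw [Scheme.basicOpen_zero] at hxg₀
    exact hxg₀
  set g := a * g₀ with hgdef
  have hg : g ≠ 0 := mul_ne_zero ha hg₀
  let V : X.affineOpens := X.affineBasicOpen g
  have hVU : V.1 ≤ U.1 := X.basicOpen_le g
  have hVW : V.1 ≤ W₀ := by
    show X.basicOpen g ≤ W₀
    rw [hgdef, Scheme.basicOpen_mul]
    exact inf_le_right.trans (hg₀W.trans inf_le_right)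
  let B' := Γ(X, V.1)
  letI : Algebra B B' := (X.presheaf.map (homOfLE hVU).op).hom.toAlgebra
  haveI : IsLocalization.Away g B' := U.2.isLocalization_basicOpen g
  let φ' : B' := algebraMap B B' φ
  have heV : CycCov.IsGen L V.1 (rs L hVU e) := Frames.cycIsGen (he.res hVU)
  have hφV : SecTwist.val s V.1 = φ' • CycCov.lpow L V.1 (rs L hVU e) N :=
    Frames.phi_res s hVU e φ hφ
  have hbij := hchart V hVW (rs L hVU e) heV φ' hφV
  let ch := CycCov.chart R V (rs L hVU e) heV φ' hφV
  let chE := RingEquiv.ofBijective ch hbij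
  let res : A →+* Γ(Y, π ⁻¹ᵁ V.1) := (Y.presheaf.map (homOfLE (π.preimage_mono hVU)).op).hom
  have hnat : ∀ b : B, res ((π.app U.1).hom b) = (π.app V.1).hom (algebraMap B B' b) := fun b =>
    (congr($(π.naturality (homOfLE hVU).op) b)).symm
  let ι : A →ₐ[B] AdjoinRoot (Polynomial.X ^ N - Polynomial.C φ' : Polynomial B') :=
    { toRingHom := chE.symm.toRingHom.comp res
      commutes' := fun b => by
        show chE.symm (res ((π.app U.1).hom b)) = _
        rw [hnat, RingEquiv.symm_apply_eq]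
        show (π.app V.1).hom (algebraMap B B' b) = ch (algebraMap B _ b)
        rw [IsScalarTower.algebraMap_apply B B' _ b]
        exact (AdjoinRoot.lift_of _).symm }
  have hιt : ι (R.t U e (Frames.cycIsGen he)) = AdjoinRoot.root _ := by
    show chE.symm (res (R.t U e _)) = _
    rw [RingEquiv.symm_apply_eq]
    show res (R.t U e _) = ch (AdjoinRoot.root _)
    refine (R.t_res U V hVU e (Frames.cycIsGen he) heV).trans ?_
    exact (AdjoinRoot.lift_root _).symm
  have hres : Function.Injective res := by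
    refine (injective_iff_map_eq_zero res).2 fun z hz => ?_
    have haff : IsAffineOpen (π ⁻¹ᵁ U.1) := U.2.preimage π
    have hpre : π ⁻¹ᵁ V.1 = Y.basicOpen ((π.app U.1).hom g) := π.preimage_basicOpen g
    obtain ⟨m, hm⟩ : ∃ m : ℕ, (π.app U.1).hom g ^ m * z = 0 := by
      haveI := haff.isLocalization_basicOpen ((π.app U.1).hom g)
      have hz' : algebraMap A Γ(Y, Y.basicOpen ((π.app U.1).hom g)) z = 0 := by
        have h2 := congrArg (Y.presheaf.map (eqToHom hpre.symm).op).hom hz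
        rw [map_zero] at h2
        rw [← h2]
        show (Y.presheaf.map _) z = (Y.presheaf.map _ ≫ Y.presheaf.map _) z
        erw [← Functor.map_comp]
        rfl
      obtain ⟨⟨_, m, rfl⟩, hm⟩ :=
        (IsLocalization.map_eq_zero_iff (Submonoid.powers ((π.app U.1).hom g)) _ z).mp hz'
      exact ⟨m, hm⟩
    refine eq_zero_of_basicOpen_eq_bot z (le_bot_iff.mp fun y hy => ?_)
    exfalso
    obtain ⟨y', hy', hyW⟩ := hW₀'.inter_open_nonempty _ (Y.basicOpen z).2 ⟨y, hy⟩
    have hy'U : π y' ∈ U.1 := Y.basicOpen_le z hy'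
    obtain ⟨h, hhW, hxh⟩ := U.2.exists_basicOpen_le (V := U.1 ⊓ W₀) ⟨π y', hy'U, hyW⟩ hy'U
    let H : X.affineOpens := X.affineBasicOpen h
    have hHU : H.1 ≤ U.1 := X.basicOpen_le h
    letI : Algebra B Γ(X, H.1) := (X.presheaf.map (homOfLE hHU).op).hom.toAlgebra
    haveI : IsLocalization.Away h Γ(X, H.1) := U.2.isLocalization_basicOpen h
    haveI : Nonempty H.1 := ⟨⟨π y', hxh⟩⟩
    haveI : IsDomain Γ(X, H.1) := inferInstance
    let φH : Γ(X, H.1) := algebraMap B _ φ
    have heH : CycCov.IsGen L H.1 (rs L hHU e) := Frames.cycIsGen (he.res hHU)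
    have hφH : SecTwist.val s H.1 = φH • CycCov.lpow L H.1 (rs L hHU e) N :=
      Frames.phi_res s hHU e φ hφ
    have hbH := hchart H (hhW.trans inf_le_right) (rs L hHU e) heH φH hφH
    let zH := (Y.presheaf.map (homOfLE (π.preimage_mono hHU)).op).hom z
    have hzH : zH = 0 := by
      obtain ⟨q, hq⟩ := hbH.2 zH
      obtain ⟨c, hc⟩ := CycAlg.Cover.exists_coord hN φH q
      have hgH : algebraMap B Γ(X, H.1) g ≠ 0 := fun h0 => hg <| by
        refine CycAlg.Cover.inj_away (g := h) (B' := Γ(X, H.1)) ?_ (h0.trans (map_zero _).symm)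
        rintro rfl
        rw [Scheme.basicOpen_zero] at hxh
        exact hxh
      have h3 : algebraMap Γ(X, H.1) (AdjoinRoot (Polynomial.X ^ N - Polynomial.C φH : Polynomial Γ(X, H.1)))
          (algebraMap B Γ(X, H.1) g ^ m) * q = 0 := by
        refine hbH.1 ?_
        rw [map_mul, map_zero, hq]
        have h4 := congrArg (Y.presheaf.map (homOfLE (π.preimage_mono hHU)).op).hom hm
        rw [map_zero, map_mul, map_pow] at h4
        rw [← h4]
        congr 1
        rw [map_pow, map_pow]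
        congr 1
        exact (AdjoinRoot.lift_of _).trans (congr($(π.naturality (homOfLE hHU).op) g))
      rw [hc, Finset.mul_sum] at h3
      have h5 := CycAlg.Cover.coord_eq_zero hN φH (fun j => algebraMap B Γ(X, H.1) g ^ m * c j) (by
        rw [← h3]; exact Finset.sum_congr rfl fun j _ => by rw [map_mul, mul_assoc])
      have hc0 : c = 0 := funext fun j =>
        (mul_eq_zero.mp (congrFun h5 j)).resolve_left (pow_ne_zero _ hgH)
      rw [← hq, hc, hc0]
      simp
    have h6 : y' ∈ Y.basicOpen zH := by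
      rw [Scheme.basicOpen_res]
      exact ⟨hxh, hy'⟩
    rw [hzH, Scheme.basicOpen_zero] at h6
    exact h6
  have hι : Function.Injective ι := chE.symm.injective.comp hres
  have hnorm : ∀ (Q : Ideal A) [Q.IsMaximal], IsDomain (Localization.AtPrime Q) ∧
      IsIntegrallyClosed (Localization.AtPrime Q) := by
    intro Q _
    have haff : IsAffineOpen (π ⁻¹ᵁ U.1) := U.2.preimage π
    let p : PrimeSpectrum A := ⟨Q, inferInstance⟩
    have hy : haff.fromSpec p ∈ π ⁻¹ᵁ U.1 := by
      have h : haff.fromSpec p ∈ Set.range haff.fromSpec := ⟨p, rfl⟩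
      rwa [haff.range_fromSpec] at h
    letI := Y.presheaf.algebra_section_stalk ⟨haff.fromSpec p, hy⟩
    haveI : IsLocalization.AtPrime (Y.presheaf.stalk (haff.fromSpec p)) Q :=
      haff.isLocalization_stalk' p hy
    let E := (IsLocalization.algEquiv Q.primeCompl (Y.presheaf.stalk (haff.fromSpec p))
      (Localization.AtPrime Q)).toRingEquiv
    obtain ⟨h1, h2⟩ := hR.2.1 (haff.fromSpec p)
    exact ⟨E.symm.injective.isDomain E.symm.toRingHom, IsIntegrallyClosed.of_equiv E⟩
  have hred : ∀ (y : B) (n : ℕ), a ∣ y ^ n → a ∣ y := by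
    haveI : _root_.IsReduced (B ⧸ Ideal.span ({a} : Set B)) :=
      isReduced_ofLocalizationMaximal _ fun P _ =>
        haveI := hD P
        haveI := Lib.Regular.Quotient.isDomain (Localization.AtPrime P)
        inferInstance
    intro y n hy
    rw [← Ideal.mem_span_singleton, ← Ideal.Quotient.eq_zero_iff_mem]
    rw [← Ideal.mem_span_singleton, ← Ideal.Quotient.eq_zero_iff_mem, map_pow] at hy
    exact IsNilpotent.eq_zero ⟨n, hy⟩
  obtain ⟨h1, h2, -, h4⟩ := CycAlg.Cover.main (B' := B') (g := g) φ a u₀ β rfl hg ⟨g₀, rfl⟩ hN hζ hNu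
    hred hnorm (fun P _ => Base.isRegularLocalRing f U P) hD (R.t U e (Frames.cycIsGen he)) ι hι hιt
  refine ⟨h1, h2, fun hau => ?_⟩
  haveI := etale_adjoinRoot hN φ (u₀.isUnit.mul (hau.pow β)) hNu
  let Φ : AdjoinRoot (Polynomial.X ^ N - Polynomial.C φ : Polynomial B) →ₐ[B] A :=
    AdjoinRoot.liftAlgHom _ (Algebra.ofId B A) (R.t U e (Frames.cycIsGen he)) (by
      rw [Polynomial.eval₂_sub, Polynomial.eval₂_X_pow, Polynomial.eval₂_C,
        R.pow_eq U e (Frames.cycIsGen he) φ hφ]
      exact sub_self _)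
  have hΦ : Function.Bijective Φ := by
    constructor
    · refine (injective_iff_map_eq_zero Φ).2 fun q hq => ?_
      obtain ⟨c, rfl⟩ := CycAlg.Cover.exists_coord hN φ q
      simp only [map_sum, map_mul, AlgHom.commutes, map_pow, Φ, AdjoinRoot.liftAlgHom_root] at hq
      have := (h4 hau).1 (a₁ := c) (a₂ := 0) (by simpa using hq)
      simp [this]
    · intro z
      obtain ⟨c, hc⟩ := (h4 hau).2 z
      refine ⟨∑ j, algebraMap B _ (c j) * AdjoinRoot.root _ ^ (j : ℕ), ?_⟩
      simp only [map_sum, map_mul, AlgHom.commutes, map_pow, Φ, AdjoinRoot.liftAlgHom_root]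
      exact hc
  exact Algebra.Etale.of_equiv (AlgEquiv.ofBijective Φ hΦ)

end Groth.Agent.H95.CycCover.Local
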